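import Cfsg.Agent.H700.DM.Defs
import Cfsg.Agent.H677.CodMultiset
import Cfsg.Agent.H677.FusedDeg
import Cfsg.Agent.H686.CharKit
import Cfsg.Agent.Characters.Linear
import Cfsg.Agent.H95.StemCover
import Cfsg.Agent.H100.AltSyl.PslPts
import Cfsg.Agent.H419.TwoTrans

/-!
# S4907, exceptional covers: generic part (helper604)

* `sameDeg_symm`, `sameDeg_trans`, `sameDeg_of_equiv`, `sameDeg_card_eq`, `sameDeg_perfect`, `sameDeg_hasDeg`;
* `hasDeg_of_surj`, `hasDeg_congr`;
* `hasDeg_psl`, `hasDeg_alt`.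
-/

set_option autoImplicit false

namespace Cfsg.Agent.H604.DM

open Cfsg Subgroup Cfsg.Agent.H700.DM Cfsg.Agent.H686.CharKit
open scoped LinearAlgebra.Projectivization

universe u v w

section Basic

variable {G : Type u} {H : Type v} [Group G] [Group H]

/-- transport of irreducible characters along a surjective homomorphism -/
def pullS (f : G →* H) (hf : Function.Surjective f) (χ : IrrCharacter H) : IrrCharacter G :=
  ⟨(χ : H → ℂ) ∘ f, Characters.Core.isIrr_comp f hf χ.2⟩

theorem charDegree_pullS (f : G →* H) (hf : Function.Surjective f) (χ : IrrCharacter H) :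
    charDegree (pullS f hf χ : G → ℂ) = charDegree (χ : H → ℂ) := by
  unfold charDegree
  change ⌊((χ : H → ℂ) (f 1)).re⌋₊ = _
  rw [map_one]

theorem hasDeg_of_surj {n : ℕ} (h : HasDeg n H) (f : G →* H) (hf : Function.Surjective f) : HasDeg n G := by
  obtain ⟨χ, hχ⟩ := h
  exact ⟨pullS f hf χ, by rw [charDegree_pullS, hχ]⟩

theorem hasDeg_congr {n : ℕ} (h : HasDeg n H) (e : G ≃* H) : HasDeg n G :=
  hasDeg_of_surj h e.toMonoidHom e.surjective

/-- the bijection of the irreducible characters given by an isomorphism -/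
def irrE (e : G ≃* H) : IrrCharacter H ≃ IrrCharacter G where
  toFun := pullS e.toMonoidHom e.surjective
  invFun := pullS e.symm.toMonoidHom e.symm.surjective
  left_inv χ := Subtype.ext (funext fun x => congrArg (χ : H → ℂ) (e.apply_symm_apply x))
  right_inv χ := Subtype.ext (funext fun x => congrArg (χ : G → ℂ) (e.symm_apply_apply x))

theorem sameDeg_of_equiv (e : G ≃* H) : SameDeg G H :=
  ⟨irrE e.symm, fun χ => charDegree_pullS e.symm.toMonoidHom e.symm.surjective χ⟩

theorem sameDeg_symm (h : SameDeg G H) : SameDeg H G := by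
  obtain ⟨f, hf⟩ := h
  refine ⟨f.symm, fun χ => ?_⟩
  rw [← hf, Equiv.apply_symm_apply]

theorem sameDeg_trans {K : Type w} [Group K] (h : SameDeg G H) (h' : SameDeg H K) : SameDeg G K := by
  obtain ⟨f, hf⟩ := h
  obtain ⟨g, hg⟩ := h'
  exact ⟨f.trans g, fun χ => by rw [Equiv.trans_apply, hg, hf]⟩

theorem sameDeg_hasDeg (h : SameDeg G H) {n : ℕ} (hn : HasDeg n G) : HasDeg n H := by
  obtain ⟨f, hf⟩ := h
  obtain ⟨χ, rfl⟩ := hn
  exact ⟨f χ, hf χ⟩

theorem sameDeg_card_eq [Finite G] [Finite H] (h : SameDeg G H) : Nat.card G = Nat.card H := by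
  classical
  obtain ⟨f, hf⟩ := h
  have := Characters.Core.finite_irr (G := G)
  have := Characters.Core.finite_irr (G := H)
  have := Fintype.ofFinite (IrrCharacter G)
  have := Fintype.ofFinite (IrrCharacter H)
  rw [← sum_deg_sq (G := G), ← sum_deg_sq (G := H)]
  exact Fintype.sum_equiv f _ _ fun χ => by rw [hf]

/-- the number of linear characters -/
theorem card_lin [Finite G] :
    Nat.card {χ : IrrCharacter G // charDegree (χ : G → ℂ) = 1} = (commutator G).index := by
  rw [← Characters.Linear.card_hom_eq_index_commutator G, Nat.card_congr (Characters.Linear.linearEquiv G)]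
  refine Nat.card_congr (Equiv.subtypeEquivRight fun χ => ?_)
  rw [← charDegree_irr χ]
  exact ⟨fun h => by rw [h, Nat.cast_one], fun h => by exact_mod_cast h⟩

theorem sameDeg_index_commutator [Finite G] [Finite H] (h : SameDeg G H) :
    (commutator G).index = (commutator H).index := by
  obtain ⟨f, hf⟩ := h
  rw [← card_lin, ← card_lin]
  exact Nat.card_congr (f.subtypeEquiv fun χ => by rw [hf])

theorem sameDeg_perfect [Finite G] [Finite H] (h : SameDeg G H) (hH : Group.IsPerfect H) : Group.IsPerfect G := by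
  rw [Group.isPerfect_def] at hH ⊢
  rw [← Subgroup.index_eq_one, sameDeg_index_commutator h, hH, Subgroup.index_top]

end Basic

/-! ### Small degrees -/

/-- A 2-transitive action of degree `n` gives a character of degree `n - 1`. -/
theorem hasDeg_of_two_trans {G : Type*} [Group G] [Finite G] (Ω : Type*) [MulAction G Ω] [Finite Ω]
    (h2 : MulAction.IsMultiplyPretransitive G Ω 2) (hX : 2 ≤ Nat.card Ω) : HasDeg (Nat.card Ω - 1) G := by
  obtain ⟨θ, hθ⟩ := Cfsg.Agent.H419.TwoTrans.exists_irr Ω h2 hX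
  refine ⟨θ, ?_⟩
  have h1 := hθ 1
  rw [MulAction.fixedBy_one_eq_univ, Nat.card_coe_set_eq, Set.ncard_univ,
    Cfsg.Agent.Blocks.Basic.irr_one_eq_charDegree θ.2] at h1
  have h4 : ((charDegree (θ : G → ℂ) : ℕ) : ℂ) = ((Nat.card Ω - 1 : ℕ) : ℂ) := by
    rw [h1, Nat.cast_sub (by omega)]
    norm_num
  exact_mod_cast h4

theorem hasDeg_alt {n : ℕ} (hn : 4 ≤ n) : HasDeg (n - 1) (alternatingGroup (Fin n)) :=
  H677.FusedDeg.alt_deg hn

/-- the action of `PSL_n(q)` on the points -/
theorem hasDeg_psl {F : Type} [Field F] [Fintype F] {n : ℕ} (hn : 2 ≤ n) :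
    HasDeg ((Fintype.card F ^ n - 1) / (Fintype.card F - 1) - 1) (Matrix.ProjectiveSpecialLinearGroup (Fin n) F) := by
  classical
  have h1 : Nat.card (ℙ F (Fin n → F)) = (Fintype.card F ^ n - 1) / (Fintype.card F - 1) := by
    rw [Projectivization.card'' F (Fin n → F), Nat.card_eq_fintype_card, Fintype.card_fun, Fintype.card_fin,
      Nat.card_eq_fintype_card]
  have hfin : Finite (ℙ F (Fin n → F)) := inferInstance
  have h2 : 2 ≤ Nat.card (ℙ F (Fin n → F)) := by
    have : Nontrivial (Fin n) := Fin.nontrivial_iff_two_le.2 hn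
    obtain ⟨a, b, c, hab, -, -⟩ := H100.AltSyl.three_points (ι := Fin n) (F := F)
    have : Nontrivial (ℙ F (Fin n → F)) := ⟨a, b, hab⟩
    exact Finite.one_lt_card
  rw [← h1]
  exact hasDeg_of_two_trans (ℙ F (Fin n → F)) H100.AltSyl.psl_two_transitive h2

end Cfsg.Agent.H604.DM
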