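import Cfsg.Agent.H604.DM.LowB
import Cfsg.Agent.H456.DM.Cover
import Cfsg.Agent.H456.DM.Solv
import Cfsg.Agent.OrdDiv.Main

/-!
# S4907, exceptional covers: elimination of simple quotients (helper604)

`kill` : `G` perfect, `M` normal solvable, `G / M ≃ K` simple with multiplier `A`; if `l ^ e ∣ |M|`, `l ^ e ∤ |A|` and the
groups `GL_j(l)` with `l ^ j ∣ |M|` are smaller than `K`: contradiction.
-/

set_option autoImplicit false

namespace Cfsg.Agent.H604.DM

open Cfsg Subgroup Cfsg.Agent.H700.DM Matrix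

universe u v w x

/-- the order of `GL_j(l)` -/
def glc (l j : ℕ) : ℕ := ((List.range j).map fun i => l ^ j - l ^ i).prod

theorem card_gl {l : ℕ} (hl : l.Prime) (j : ℕ) : Nat.card (GL (Fin j) (ZMod l)) = glc l j := by
  have : Fact l.Prime := ⟨hl⟩
  rw [Matrix.card_GL_field, ZMod.card, glc, Fin.prod_univ_eq_prod_range (fun i => l ^ j - l ^ i) j]
  rfl

/-- the elimination of a simple quotient -/
theorem kill {G : Type u} [Group G] [Finite G] (hG : Group.IsPerfect G) (M : Subgroup G) [M.Normal]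
    (hs : IsSimpleGroup (G ⧸ M)) (hna : ¬ ∀ a b : G ⧸ M, a * b = b * a) (hM : Group.IsSolvable M) {k m : ℕ}
    (hk : Nat.card (G ⧸ M) = k) (hm : Nat.card M = m) {K : Type w} [Group K] (eK : G ⧸ M ≃* K) {A : Type x}
    [CommGroup A] (hA : HasSchurMultiplier K A) (l e b : ℕ) (hl : l.Prime) (he : l ^ e ∣ m) (hb : ¬ l ^ (b + 1) ∣ m)
    (hgl : ∀ j < b + 1, glc l j < k ∧ glc l j ≠ 0) (hnd : ¬ l ^ e ∣ Nat.card A) : False := by
  obtain ⟨E, _, _, hE, ⟨e1⟩, hc⟩ := H456.DM.Cover.cover_of hG M hs hna hM hl (fun j hj hdvd => by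
    have hjb : j < b + 1 := by
      by_contra hlt
      push Not at hlt
      rw [hm] at hj
      exact hb ((pow_dvd_pow l hlt).trans hj)
    obtain ⟨h1, h2⟩ := hgl j hjb
    rw [card_gl hl, hk] at hdvd
    exact absurd (Nat.le_of_dvd (Nat.pos_of_ne_zero h2) hdvd) (not_le.2 h1))
  let π : E →* K := (e1.trans eK).toMonoidHom.comp (QuotientGroup.mk' (center E))
  have hπ : Function.Surjective π := (e1.trans eK).surjective.comp (QuotientGroup.mk'_surjective _)
  have hker : π.ker = center E := by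
    ext x
    rw [MonoidHom.mem_ker]
    change (e1.trans eK) (QuotientGroup.mk' (center E) x) = 1 ↔ _
    rw [MulEquiv.map_eq_one_iff]
    exact QuotientGroup.eq_one_iff x
  have h1 := H95.StemCover.card_ker_dvd hA (Group.isPerfect_def.1 hE.1) π hπ hker.le
  rw [hker, hc] at h1
  apply hnd
  refine (pow_dvd_pow l ?_).trans h1
  rw [hm]
  have hm0 : m ≠ 0 := by rw [← hm]; exact Nat.card_pos.ne'
  exact (hl.pow_dvd_iff_le_factorization hm0).1 he

end Cfsg.Agent.H604.DM
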