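import Cfsg.Agent.H604.DM.Gen
import Cfsg.Agent.H51.Tools
import Cfsg.Agent.H912.Bd4

/-!
# S4907, exceptional covers: lower bounds for the degrees of a quasisimple group from a subgroup (helper604)

`lowDeg_of_sub` : `H` quasisimple, `f : T → H / Z(H)` injective, `T` perfect with multiplier `A` of order prime to `r` and
`Bd ℂ r m T` (projective representations of `T` with kernel prime to `r` have degree at least `m`): every irreducible
degree of `H` is one or at least `m`.
-/

set_option autoImplicit false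

namespace Cfsg.Agent.H604.DM

open Cfsg Subgroup Cfsg.Agent.H700.DM Cfsg.Agent.H686.CharKit Cfsg.Agent.H51
open scoped commutatorElement

universe u v w x

/-- a proper normal subgroup of a quasisimple group is central -/
theorem le_center_of_normal {H : Type v} [Group H] (hH : IsQuasisimple H) {N : Subgroup H} (hN : N.Normal)
    (hne : N ≠ ⊤) : N ≤ center H := by
  have := hH.2
  have hNm : (N.map (QuotientGroup.mk' (center H))).Normal := hN.map _ (QuotientGroup.mk'_surjective _)
  rcases hNm.eq_bot_or_eq_top with h | h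
  · intro x hx
    have h1 : QuotientGroup.mk' (center H) x ∈ N.map (QuotientGroup.mk' (center H)) := mem_map_of_mem _ hx
    rw [h, mem_bot] at h1
    exact (QuotientGroup.eq_one_iff _).1 h1
  · exfalso
    apply hne
    have hfac : ∀ x : H, ∃ n ∈ N, ∃ z ∈ center H, x = n * z := by
      intro x
      have h1 : QuotientGroup.mk' (center H) x ∈ N.map (QuotientGroup.mk' (center H)) := h ▸ mem_top _
      obtain ⟨n, hn, h2⟩ := h1
      refine ⟨n, hn, n⁻¹ * x, ?_, by group⟩
      have h3 : QuotientGroup.mk' (center H) (n⁻¹ * x) = 1 := by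
        rw [map_mul, map_inv, ← h2, inv_mul_cancel]
      exact (QuotientGroup.eq_one_iff _).1 h3
    rw [eq_top_iff, ← (Group.isPerfect_def.1 hH.1), commutator_def, commutator_le]
    intro a _ b _
    obtain ⟨n, hn, z, hz, rfl⟩ := hfac a
    obtain ⟨m, hm, w, hw, rfl⟩ := hfac b
    have hzc := mem_center_iff.1 hz
    have hwc := mem_center_iff.1 hw
    have e1 : ⁅n * z, m * w⁆ = ⁅n, m⁆ := by
      rw [commutatorElement_def, commutatorElement_def, mul_inv_rev, mul_inv_rev]
      have hz' : ∀ g, z⁻¹ * g = g * z⁻¹ := fun g => ((mem_center_iff.1 (inv_mem hz)) g).symm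
      have hw' : ∀ g, w⁻¹ * g = g * w⁻¹ := fun g => ((mem_center_iff.1 (inv_mem hw)) g).symm
      calc n * z * (m * w) * (z⁻¹ * n⁻¹) * (w⁻¹ * m⁻¹)
          = n * (z * m) * w * z⁻¹ * n⁻¹ * w⁻¹ * m⁻¹ := by group
        _ = n * (m * z) * w * z⁻¹ * n⁻¹ * w⁻¹ * m⁻¹ := by rw [← hzc m]
        _ = n * m * (z * w) * z⁻¹ * n⁻¹ * w⁻¹ * m⁻¹ := by group
        _ = n * m * (w * z) * z⁻¹ * n⁻¹ * w⁻¹ * m⁻¹ := by rw [← hzc w]
        _ = n * m * (w * n⁻¹) * w⁻¹ * m⁻¹ := by group
        _ = n * m * (n⁻¹ * w) * w⁻¹ * m⁻¹ := by rw [← hwc n⁻¹]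
        _ = n * m * n⁻¹ * m⁻¹ := by group
    rw [e1]
    exact N.mul_mem (hN.conj_mem n hn m |> fun _ => by
      have : n * m * n⁻¹ ∈ N := N.mul_mem (N.mul_mem hn hm) (N.inv_mem hn)
      exact this) (N.inv_mem hm)

/-- **lower bound from a subgroup** -/
theorem lowDeg_of_sub {H : Type v} [Group H] [Finite H] (hH : IsQuasisimple H) {r m : ℕ}
    {T : Type w} [Group T] (hT : commutator T = ⊤) (f : T →* H ⧸ center H) (hf : Function.Injective f)
    {A : Type x} [CommGroup A] (hA : HasSchurMultiplier T A) (hcop : (Nat.card A).Coprime r)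
    (hB : H912.Bd.Bd ℂ r m T) : LowDeg m H := by
  classical
  intro χ
  -- the subgroup and its projection
  let q : H →* H ⧸ center H := QuotientGroup.mk' (center H)
  let P : Subgroup H := f.range.comap q
  let e := MonoidHom.ofInjective hf
  let π : P →* T := e.symm.toMonoidHom.comp ((q.comp P.subtype).codRestrict f.range (fun x => x.2))
  have hπ : ∀ x : P, f (π x) = q x := by
    intro x
    change f (e.symm _) = _
    rw [← MonoidHom.ofInjective_apply hf]
    exact congrArg Subtype.val (e.apply_symm_apply _)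
  have hker : ∀ x : P, π x = 1 ↔ (x : H) ∈ center H := by
    intro x
    rw [← QuotientGroup.eq_one_iff]
    change _ ↔ q x = 1
    rw [← hπ x]
    exact ⟨fun h => by rw [h, map_one], fun h => hf (by rw [h, map_one])⟩
  have hsurj : Function.Surjective π := by
    intro t
    obtain ⟨y, hy⟩ := QuotientGroup.mk'_surjective (center H) (f t)
    exact ⟨⟨y, ⟨t, hy.symm⟩⟩, hf (by rw [hπ]; exact hy)⟩
  have hcen : π.ker ≤ center P := by
    intro x hx
    rw [mem_center_iff]
    intro y
    exact Subtype.ext (mem_center_iff.1 ((hker x).1 hx) y)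
  have hpce := Tools.pce_of_central hsurj hcen hT
  -- to the universe zero
  let L := Shrink.{0} ↥(commutator P)
  let eL : L ≃* ↥(commutator P) := Shrink.mulEquiv
  let πL : L →* T := (π.comp (commutator P).subtype).comp eL.toMonoidHom
  obtain ⟨n, ρ, hρ, hχ⟩ := χ.2
  have hdeg : charDegree (χ : H → ℂ) = n := by
    have h1 : ((charDegree (χ : H → ℂ) : ℕ) : ℂ) = n := by
      rw [charDegree_irr χ, ← hχ, Representation.char_one]
      simp
    exact_mod_cast h1
  rw [hdeg]
  by_cases htop : (ρ : H →* ((Fin n → ℂ) →ₗ[ℂ] (Fin n → ℂ))).ker = ⊤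
  · left
    have hlin : (χ : H → ℂ) = fun _ => (n : ℂ) := by
      rw [← hχ]
      funext g
      have hg : g ∈ (ρ : H →* ((Fin n → ℂ) →ₗ[ℂ] (Fin n → ℂ))).ker := htop ▸ mem_top _
      rw [MonoidHom.mem_ker] at hg
      rw [Representation.character]
      have : ρ g = 1 := hg
      rw [this]
      simp
    have := Fintype.ofFinite H
    have h1 := Characters.Core.classInner_irr_self χ.2
    rw [hlin, Characters.Core.classInner_def] at h1
    simp only [Complex.conj_natCast, Finset.sum_const, Finset.card_univ, nsmul_eq_mul] at h1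
    rw [← Nat.card_eq_fintype_card, ← mul_assoc, inv_mul_cancel₀ (by exact_mod_cast Nat.card_pos.ne'), one_mul] at h1
    have h3 : n * n = 1 := by exact_mod_cast h1
    exact Nat.eq_one_of_mul_eq_one_left h3
  · right
    have hkc := le_center_of_normal hH (MonoidHom.normal_ker (ρ : H →* ((Fin n → ℂ) →ₗ[ℂ] (Fin n → ℂ)))) htop
    let e2 : ((Fin n → ℂ) →ₗ[ℂ] (Fin n → ℂ))ˣ ≃* Matrix.GeneralLinearGroup (Fin n) ℂ :=
      (Matrix.GeneralLinearGroup.toLin (n := Fin n) (R := ℂ)).symm
    let ρ' : H →* Matrix.GeneralLinearGroup (Fin n) ℂ :=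
      e2.toMonoidHom.comp (MonoidHom.toHomUnits (ρ : H →* ((Fin n → ℂ) →ₗ[ℂ] (Fin n → ℂ))))
    have hρ' : ∀ g, ρ' g = 1 → g ∈ center H := by
      intro g hg
      apply hkc
      rw [MonoidHom.mem_ker]
      have h3 : MonoidHom.toHomUnits (ρ : H →* ((Fin n → ℂ) →ₗ[ℂ] (Fin n → ℂ))) g = 1 :=
        (MulEquiv.map_eq_one_iff e2).1 hg
      exact congrArg Units.val h3
    refine hB n ⟨L, inferInstance, πL, ρ'.comp (P.subtype.comp ((commutator P).subtype.comp eL.toMonoidHom)),
      hpce.surj.comp eL.surjective, ?_, ?_, ?_⟩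
    · intro x hx y
      have h3 : eL x ∈ center ↥(commutator P) := hpce.cen (MonoidHom.mem_ker.2 hx)
      apply eL.injective
      rw [map_mul, map_mul]
      exact (mem_center_iff.1 h3 (eL y)).symm
    · have h3 := H95.StemCover.card_ker_dvd hA hpce.perf _ hpce.surj hpce.cen
      have h4 : Nat.card πL.ker = Nat.card (π.comp (commutator P).subtype).ker := by
        apply Nat.card_congr
        exact (eL.toEquiv.subtypeEquiv fun x => Iff.rfl)
      rw [h4]
      exact Nat.Coprime.coprime_dvd_left h3 hcop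
    · intro x hx
      have h3 := hρ' _ hx
      exact (hker _).2 h3

end Cfsg.Agent.H604.DM
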