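import Cfsg.Agent.H604.DM.Kill
import Cfsg.Agent.H206.SubO73
import Cfsg.Agent.H912.BdSL
import Cfsg.Agent.S2086
import Cfsg.Agent.S2095

/-!
# S4907, exceptional covers of `O₇(3)`: lower bound of the degrees (helper604)
-/

set_option autoImplicit false

namespace Cfsg.Agent.H604.DM

open Cfsg Subgroup Cfsg.Agent.H700.DM Matrix Cfsg.Agent.OrdDiv

universe u v w x

theorem charP_of_card {F : Type*} [Field F] [Fintype F] {p : ℕ} (hp : p.Prime) (hF : Fintype.card F = p) :
    CharP F p := by
  obtain ⟨r, hr⟩ := CharP.exists F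
  have hr1 : r.Prime := CharP.char_is_prime F r
  have := Fact.mk hr1
  obtain ⟨k, -, hk⟩ := FiniteField.card F r
  rw [hF] at hk
  have h1 : r ∣ p := by rw [hk]; exact dvd_pow_self r k.pos.ne'
  have h2 := (Nat.prime_dvd_prime_iff_eq hr1 hp).1 h1
  subst h2
  exact hr

theorem psl_perfect {F : Type*} [Field F] {n : ℕ} (hn : 2 < n) :
    _root_.commutator (ProjectiveSpecialLinearGroup (Fin n) F) = ⊤ := by
  have h1 : _root_.commutator (SpecialLinearGroup (Fin n) F) = ⊤ :=
    LieClassical.SLGen.commutator_eq_top (by rw [Fintype.card_fin]; exact hn)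
  have h2 := Subgroup.map_commutator (⊤ : Subgroup (SpecialLinearGroup (Fin n) F)) ⊤
    (QuotientGroup.mk' (center (SpecialLinearGroup (Fin n) F)))
  rw [← _root_.commutator_def, h1, ← MonoidHom.range_eq_map,
    MonoidHom.range_eq_top.2 (QuotientGroup.mk'_surjective _)] at h2
  exact h2.symm

/-- **degrees of the covers of `O₇(3)`** -/
theorem lowDeg_o7 {H : Type v} [Group H] [Finite H] (hH : IsQuasisimple H) {F : Type} [Field F] [Fintype F]
    (hF : Fintype.card F = 3) (e : H ⧸ center H ≃* POmega F (quadFormOdd 3 F)) : LowDeg 26 H := by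
  obtain ⟨L, F', _, _, hF', ⟨e'⟩⟩ := H206.SubO73.X1 (H ⧸ center H) ⟨F, inferInstance, inferInstance, hF, ⟨e⟩⟩
  have hA := S2086.result (F := F') hF' 4 (by norm_num) (by norm_num) (by
    simp only [Set.mem_insert_iff, Set.mem_singleton_iff, Prod.mk.injEq]
    omega)
  have hB := H912.Bd.bd_psl (F := ℂ) (r := 3) Nat.prime_three (by norm_num) (m := 4) (by norm_num) (K := F')
    (charP_of_card Nat.prime_three hF')
  rw [hF'] at hB
  refine lowDeg_of_sub hH (T := ProjectiveSpecialLinearGroup (Fin 4) F') (psl_perfect (by norm_num))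
    (L.subtype.comp e'.symm.toMonoidHom) ?_ hA ?_ hB
  · exact (Subtype.val_injective).comp e'.symm.injective
  · rw [Nat.card_congr Multiplicative.toAdd, Nat.card_zmod]
    decide

end Cfsg.Agent.H604.DM
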