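import Cfsg.Agent.H604.DM.OSevenRow
import Cfsg.Agent.OrdDiv.Table
import Cfsg.Agent.Schreier.Assembly
import Cfsg.Agent.S0000

/-!
# S4907, rows `3.O₇(3)`, `6.O₇(3)`, final form (helper604, DM23)
-/

set_option autoImplicit false

namespace Cfsg.Agent.H604.DM

open Cfsg Subgroup Cfsg.Agent.H700.DM

universe u v

/-- **DM23** -/
theorem row_o7 {G : Type u} {H : Type v} [Group G] [Finite G] [Group H] [Finite H]
    (hH : IsQuasisimple H) {F : Type} [Field F] [Fintype F] (hF : Fintype.card F = 3)
    (e : H ⧸ center H ≃* POmega F (quadFormOdd 3 F)) (h3 : 3 ∣ Nat.card (center H)) (hd : H700.DM.SameDeg G H) :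
    Nonempty (G ≃* H) := by
  refine row_o7_core OrdDiv.table (fun X _ _ _ => S0000.result) ?_ hH hF e h3 hd
  intro K _ _ hK hna
  exact Schreier.Assembly.known K (fun h => hna h.is_comm.comm) S0000.result

end Cfsg.Agent.H604.DM
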