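import Cfsg.Agent.H604.DM.OSeven
import Cfsg.Agent.H7.DM.WeilDeg
import Cfsg.Agent.H124.DM.Uniq
import Cfsg.Agent.H655.PrimeNormal
import Cfsg.Agent.UGT.U2.Rec.Congr
import Cfsg.Agent.S0292
import Cfsg.Agent.S0822
import Cfsg.Agent.S2089
import Cfsg.Agent.S2090
import Cfsg.Agent.S2093
import Cfsg.Agent.S2101
import Cfsg.Agent.S2112

/-!
# S4907, rows `3.O₇(3)`, `6.O₇(3)` (helper604)
-/

set_option autoImplicit false

namespace Cfsg.Agent.H604.DM

open Cfsg Subgroup Cfsg.Agent.H700.DM Matrix Cfsg.Agent.OrdDiv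

universe u v w x

/-- the names with orders dividing `6 |O₇(3)|` -/
def allO7 : List Grp :=
  [.alt 5, .alt 6, .alt 7, .alt 8, .alt 9, .psl 3 2, .psl 4 2, .psl 2 4, .psl 3 4, .psl 2 8, .psl 2 64, .psl 3 3,
    .psl 4 3, .psl 2 9, .psl 3 9, .psl 2 27, .psl 2 5, .psl 2 7, .psl 2 13, .psp 3 2, .psp 2 3, .psp 3 3, .psu 4 2,
    .psu 3 3, .psu 4 3, .oodd 3 3, .g2 3, .sz 8]

/-- the names without degree between 2 and 25 -/
def restO7 : List Grp :=
  [.psl 2 64, .psl 4 3, .psl 3 9, .psl 2 27, .psp 3 2, .psu 3 3, .psu 4 3, .g2 3, .sz 8, .oodd 3 3]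

theorem cands_o7 : cands [(2, 10), (3, 10), (5, 1), (7, 1), (13, 1)] 27512110080 = allO7 := by decide +kernel

theorem valid_o7 : valid [(2, 10), (3, 10), (5, 1), (7, 1), (13, 1)] 27512110080 = true := by decide +kernel

theorem deg_psl_of {T : Type u} [Group T] {n q d : ℕ} (hr : OrdDiv.Real (.psl n q) T) (hn : 2 ≤ n)
    (hd : (q ^ n - 1) / (q - 1) - 1 = d) : HasDeg d T := by
  obtain ⟨F, _, _, hF, ⟨e⟩⟩ := hr
  have h := hasDeg_psl (F := F) hn
  rw [hF, hd] at h
  exact hasDeg_congr h e

theorem deg_alt_of {T : Type u} [Group T] {n d : ℕ} (hr : OrdDiv.Real (.alt n) T) (hn : 4 ≤ n)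
    (hd : n - 1 = d) : HasDeg d T := by
  obtain ⟨e⟩ := hr
  rw [← hd]
  exact hasDeg_congr (hasDeg_alt hn) e

theorem deg_psp_of {T : Type u} [Group T] {m : ℕ} (hm : 2 ≤ m) {F : Type} [Field F] [Fintype F]
    (hF : Fintype.card F = 3) (e : T ≃* PSp m F) : ∃ d, 2 ≤ d ∧ 2 * d ≤ 3 ^ m + 1 ∧ HasDeg d T := by
  obtain ⟨d, h1, h2, h3⟩ := H7.DM.WeilDeg.deg_psp (F := F) hm (by rw [hF]; decide)
  rw [hF] at h2
  exact ⟨d, h1, h2, hasDeg_congr h3 e⟩

theorem mem_rest {T : Type u} [Group T] {g : Grp} (hg : g ∈ allO7) (hr : OrdDiv.Real g T)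
    (hno : ∀ n, 2 ≤ n → n ≤ 25 → ¬ HasDeg n T) : g ∈ restO7 := by
  simp only [allO7, List.mem_cons, List.not_mem_nil, or_false] at hg
  rcases hg with rfl | rfl | rfl | rfl | rfl | rfl | rfl | rfl | rfl | rfl | rfl | rfl | rfl | rfl | rfl | rfl | rfl |
    rfl | rfl | rfl | rfl | rfl | rfl | rfl | rfl | rfl | rfl | rfl
  · exact (hno 4 (by norm_num) (by norm_num) (deg_alt_of hr (by norm_num) rfl)).elim
  · exact (hno 5 (by norm_num) (by norm_num) (deg_alt_of hr (by norm_num) rfl)).elim
  · exact (hno 6 (by norm_num) (by norm_num) (deg_alt_of hr (by norm_num) rfl)).elim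
  · exact (hno 7 (by norm_num) (by norm_num) (deg_alt_of hr (by norm_num) rfl)).elim
  · exact (hno 8 (by norm_num) (by norm_num) (deg_alt_of hr (by norm_num) rfl)).elim
  · exact (hno 6 (by norm_num) (by norm_num) (deg_psl_of hr (by norm_num) rfl)).elim
  · exact (hno 14 (by norm_num) (by norm_num) (deg_psl_of hr (by norm_num) rfl)).elim
  · exact (hno 4 (by norm_num) (by norm_num) (deg_psl_of hr (by norm_num) rfl)).elim
  · exact (hno 20 (by norm_num) (by norm_num) (deg_psl_of hr (by norm_num) rfl)).elim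
  · exact (hno 8 (by norm_num) (by norm_num) (deg_psl_of hr (by norm_num) rfl)).elim
  · decide
  · exact (hno 12 (by norm_num) (by norm_num) (deg_psl_of hr (by norm_num) rfl)).elim
  · decide
  · exact (hno 9 (by norm_num) (by norm_num) (deg_psl_of hr (by norm_num) rfl)).elim
  · decide
  · decide
  · exact (hno 5 (by norm_num) (by norm_num) (deg_psl_of hr (by norm_num) rfl)).elim
  · exact (hno 7 (by norm_num) (by norm_num) (deg_psl_of hr (by norm_num) rfl)).elim
  · exact (hno 13 (by norm_num) (by norm_num) (deg_psl_of hr (by norm_num) rfl)).elim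
  · decide
  · obtain ⟨F, _, _, hF, ⟨e⟩⟩ := hr
    obtain ⟨d, h1, h2, h3⟩ := deg_psp_of (m := 2) (by norm_num) hF e
    exact (hno d h1 (by omega) h3).elim
  · obtain ⟨F, _, _, hF, ⟨e⟩⟩ := hr
    obtain ⟨d, h1, h2, h3⟩ := deg_psp_of (m := 3) (by norm_num) hF e
    exact (hno d h1 (by omega) h3).elim
  · obtain ⟨F, _, _, hF, ⟨e⟩⟩ := hr
    obtain ⟨e'⟩ := S0822.result (F := F) (K := ZMod 3) (by rw [hF]; norm_num) (ZMod.card 3)
    obtain ⟨d, h1, h2, h3⟩ := deg_psp_of (m := 2) (by norm_num) (ZMod.card 3) (e.trans e')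
    exact (hno d h1 (by omega) h3).elim
  · decide
  · decide
  · decide
  · decide
  · decide

theorem ord_rest : ∀ g ∈ restO7, ∀ g' ∈ restO7, ¬ ordN g' * ordN g ∣ 27512110080 := by decide +kernel

theorem ord_big : ∀ g ∈ restO7, 6000 < ordN g := by decide +kernel

/-- `kill` for a cyclic multiplier -/
theorem killc {G : Type u} [Group G] [Finite G] (hG : Group.IsPerfect G) (M : Subgroup G) [M.Normal]
    (hs : IsSimpleGroup (G ⧸ M)) (hna : ¬ ∀ a b : G ⧸ M, a * b = b * a) (hM : Group.IsSolvable M) {k m : ℕ}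
    (hk : Nat.card (G ⧸ M) = k) (hm : Nat.card M = m) {K : Type w} [Group K] (eK : G ⧸ M ≃* K) {n : ℕ}
    (hA : HasCyclicSchurMultiplier K n) (l e b : ℕ) (hl : l.Prime) (he : l ^ e ∣ m) (hb : ¬ l ^ (b + 1) ∣ m)
    (hgl : ∀ j < b + 1, glc l j < k ∧ glc l j ≠ 0) (hnd : ¬ l ^ e ∣ n) : False :=
  kill hG M hs hna hM hk hm eK hA l e b hl he hb hgl (by rwa [Nat.card_congr Multiplicative.toAdd, Nat.card_zmod])

/-- the order of the quotient -/
theorem card_m {a k m₁ m₂ n : ℕ} (h : a = k * n) (ha : a = 13756055040 ∨ a = 27512110080) (hk : 0 < k)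
    (h1 : 13756055040 = k * m₁) (h2 : 27512110080 = k * m₂) : n = m₁ ∨ n = m₂ := by
  rcases ha with rfl | rfl
  · left
    exact Nat.eq_of_mul_eq_mul_left hk (h.symm.trans h1)
  · right
    exact Nat.eq_of_mul_eq_mul_left hk (h.symm.trans h2)

/-- the only possible quotient is `O₇(3)` -/
theorem only_o7 {G : Type u} [Group G] [Finite G] (hP : Group.IsPerfect G)
    (hcG : Nat.card G = 13756055040 ∨ Nat.card G = 27512110080) (M : Subgroup G) [M.Normal]
    (hs : IsSimpleGroup (G ⧸ M)) (hna : ¬ ∀ a b : G ⧸ M, a * b = b * a) (hM : Group.IsSolvable M) {g : Grp}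
    (hg : g ∈ restO7) (hr : OrdDiv.Real g (G ⧸ M)) (ho : Nat.card (G ⧸ M) = ordN g) : g = .oodd 3 3 := by
  have hcard : Nat.card G = Nat.card (G ⧸ M) * Nat.card M := Subgroup.card_eq_card_quotient_mul_card_subgroup M
  simp only [restO7, List.mem_cons, List.not_mem_nil, or_false] at hg
  rcases hg with rfl | rfl | rfl | rfl | rfl | rfl | rfl | rfl | rfl | rfl
  · exfalso
    have hk : Nat.card (G ⧸ M) = 262080 := ho.trans (by decide +kernel)
    rw [hk] at hcard
    obtain ⟨F, _, _, hF, ⟨e⟩⟩ := hr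
    have hA := S2086.result (F := F) hF 2 (by norm_num) (by norm_num) (by
      simp only [Set.mem_insert_iff, Set.mem_singleton_iff, Prod.mk.injEq]; omega)
    rcases card_m (m₁ := 52488) (m₂ := 104976) hcard hcG (by norm_num) (by norm_num) (by norm_num) with hm | hm <;>
      exact killc hP M hs hna hM hk hm e hA 2 3 4 (by norm_num) (by decide) (by decide) (by decide) (by decide)
  · exfalso
    have hk : Nat.card (G ⧸ M) = 6065280 := ho.trans (by decide +kernel)
    rw [hk] at hcard
    obtain ⟨F, _, _, hF, ⟨e⟩⟩ := hr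
    have hA := S2086.result (F := F) hF 4 (by norm_num) (by norm_num) (by
      simp only [Set.mem_insert_iff, Set.mem_singleton_iff, Prod.mk.injEq]; omega)
    rcases card_m (m₁ := 2268) (m₂ := 4536) hcard hcG (by norm_num) (by norm_num) (by norm_num) with hm | hm <;>
      exact killc hP M hs hna hM hk hm e hA 7 1 1 (by norm_num) (by decide) (by decide) (by decide) (by decide)
  · exfalso
    have hk : Nat.card (G ⧸ M) = 42456960 := ho.trans (by decide +kernel)
    rw [hk] at hcard
    obtain ⟨F, _, _, hF, ⟨e⟩⟩ := hr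
    have hA := S2086.result (F := F) hF 3 (by norm_num) (by norm_num) (by
      simp only [Set.mem_insert_iff, Set.mem_singleton_iff, Prod.mk.injEq]; omega)
    rcases card_m (m₁ := 324) (m₂ := 648) hcard hcG (by norm_num) (by norm_num) (by norm_num) with hm | hm <;>
      exact killc hP M hs hna hM hk hm e hA 2 2 3 (by norm_num) (by decide) (by decide) (by decide) (by decide)
  · exfalso
    have hk : Nat.card (G ⧸ M) = 9828 := ho.trans (by decide +kernel)
    rw [hk] at hcard
    obtain ⟨F, _, _, hF, ⟨e⟩⟩ := hr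
    have hA := S2086.result (F := F) hF 2 (by norm_num) (by norm_num) (by
      simp only [Set.mem_insert_iff, Set.mem_singleton_iff, Prod.mk.injEq]; omega)
    rcases card_m (m₁ := 1399680) (m₂ := 2799360) hcard hcG (by norm_num) (by norm_num) (by norm_num) with hm | hm <;>
      exact killc hP M hs hna hM hk hm e hA 5 1 1 (by norm_num) (by decide) (by decide) (by decide) (by decide)
  · exfalso
    have hk : Nat.card (G ⧸ M) = 1451520 := ho.trans (by decide +kernel)
    rw [hk] at hcard
    obtain ⟨F, _, _, hF, ⟨e⟩⟩ := hr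
    have hA := S2093.result (F := F) hF
    rcases card_m (m₁ := 9477) (m₂ := 18954) hcard hcG (by norm_num) (by norm_num) (by norm_num) with hm | hm <;>
      exact killc hP M hs hna hM hk hm e hA 13 1 1 (by norm_num) (by decide) (by decide) (by decide) (by decide)
  · exfalso
    have hk : Nat.card (G ⧸ M) = 6048 := ho.trans (by decide +kernel)
    rw [hk] at hcard
    obtain ⟨F, _, _, hF, ⟨e⟩⟩ := hr
    have hA := S2089.result (F := F) 3 3 hF (by norm_num) (by norm_num) (by
      simp only [Set.mem_insert_iff, Set.mem_singleton_iff, Prod.mk.injEq]; omega)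
    rcases card_m (m₁ := 2274480) (m₂ := 4548960) hcard hcG (by norm_num) (by norm_num) (by norm_num) with hm | hm <;>
      exact killc hP M hs hna hM hk hm e hA 13 1 1 (by norm_num) (by decide) (by decide) (by decide) (by decide)
  · exfalso
    have hk : Nat.card (G ⧸ M) = 3265920 := ho.trans (by decide +kernel)
    rw [hk] at hcard
    obtain ⟨F, _, _, hF, ⟨e⟩⟩ := hr
    have hA := S2090.result (F := F) hF
    have hcA : Nat.card (Multiplicative (ZMod 4 × ZMod 3 × ZMod 3)) = 36 := by
      rw [Nat.card_congr Multiplicative.toAdd, Nat.card_prod, Nat.card_prod, Nat.card_zmod, Nat.card_zmod]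
    rcases card_m (m₁ := 4212) (m₂ := 8424) hcard hcG (by norm_num) (by norm_num) (by norm_num) with hm | hm <;>
      exact kill hP M hs hna hM hk hm e hA 13 1 1 (by norm_num) (by decide) (by decide) (by decide)
        (by rw [hcA]; decide)
  · exfalso
    have hk : Nat.card (G ⧸ M) = 4245696 := ho.trans (by decide +kernel)
    rw [hk] at hcard
    obtain ⟨F, _, _, hF, ⟨e⟩⟩ := hr
    have hA := S2101.result (F := F) hF
    rcases card_m (m₁ := 3240) (m₂ := 6480) hcard hcG (by norm_num) (by norm_num) (by norm_num) with hm | hm <;>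
      exact killc hP M hs hna hM hk hm e hA 5 1 1 (by norm_num) (by decide) (by decide) (by decide) (by decide)
  · exfalso
    have hk : Nat.card (G ⧸ M) = 29120 := ho.trans (by decide +kernel)
    rw [hk] at hcard
    obtain ⟨F, _, _, m, hm1, hF, hq, ⟨e⟩⟩ := hr
    have hm1' : m = 1 := by
      have h1 : (2 : ℕ) ^ (2 * m + 1) = 2 ^ 3 := by rw [← hq]; norm_num
      have h2 := Nat.pow_right_injective (le_refl 2) h1
      omega
    subst hm1'
    have hA := S2112.result (F := F) hF
    have hcA : Nat.card (Multiplicative (ZMod 2 × ZMod 2)) = 4 := by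
      rw [Nat.card_congr Multiplicative.toAdd, Nat.card_prod, Nat.card_zmod]
    rcases card_m (m₁ := 472392) (m₂ := 944784) hcard hcG (by norm_num) (by norm_num) (by norm_num) with hm | hm <;>
      exact kill hP M hs hna hM hk hm e hA 2 3 4 (by norm_num) (by decide) (by decide) (by decide)
        (by rw [hcA]; decide)
  · rfl

theorem card_o7 {F : Type} [Field F] [Fintype F] (hF : Fintype.card F = 3) :
    Nat.card (POmega F (quadFormOdd 3 F)) = 4585351680 := by
  have h := S0292.result (F := F) hF (by decide) 3 le_rfl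
  simp only [Finset.prod_range_succ, Finset.prod_range_zero] at h
  norm_num at h
  omega

/-- **S4907, rows `3.O₇(3)`, `6.O₇(3)`**, with the classification as hypothesis -/
theorem row_o7_core {G : Type u} {H : Type v} [Group G] [Finite G] [Group H] [Finite H] (tab : OrdDiv.OrderTable.{u})
    (known : ∀ (X : Type u) [Group X] [Finite X] [IsSimpleGroup X], IsKnownSimple' X)
    (sch : ∀ (K : Type u) [Group K] [Finite K], IsSimpleGroup K → (¬ ∀ a b : K, a * b = b * a) → Schreier.Basic.Sch K)
    (hH : IsQuasisimple H) {F : Type} [Field F] [Fintype F] (hF : Fintype.card F = 3)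
    (e : H ⧸ center H ≃* POmega F (quadFormOdd 3 F)) (h3 : 3 ∣ Nat.card (center H)) (hd : SameDeg G H) :
    Nonempty (G ≃* H) := by
  have hA := S2095.result (F := F) hF
  have hc6 : Nat.card (center H) ∣ 6 := by
    let π : H →* POmega F (quadFormOdd 3 F) := e.toMonoidHom.comp (QuotientGroup.mk' (center H))
    have hπ : Function.Surjective π := e.surjective.comp (QuotientGroup.mk'_surjective _)
    have hker : π.ker = center H := by
      ext x
      rw [MonoidHom.mem_ker]
      change e (QuotientGroup.mk' (center H) x) = 1 ↔ _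
      rw [MulEquiv.map_eq_one_iff]
      exact QuotientGroup.eq_one_iff x
    have h1 := H95.StemCover.card_ker_dvd_cyclic hA (Group.isPerfect_def.1 hH.1) π hπ hker.le
    rwa [hker] at h1
  have hc : Nat.card (center H) = 3 ∨ Nat.card (center H) = 6 := by
    have h1 := Nat.le_of_dvd (by norm_num) hc6
    have h2 : 0 < Nat.card (center H) := Nat.card_pos
    interval_cases h : Nat.card (center H) <;> omega
  have hcG : Nat.card G = 13756055040 ∨ Nat.card G = 27512110080 := by
    rw [sameDeg_card_eq hd, Subgroup.card_eq_card_quotient_mul_card_subgroup (center H), Nat.card_congr e.toEquiv,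
      card_o7 hF]
    rcases hc with h | h <;> rw [h] <;> norm_num
  have hcN : Nat.card G ∣ 27512110080 := by
    rcases hcG with h | h <;> rw [h]
    decide
  have hP : Group.IsPerfect G := sameDeg_perfect hd hH.1
  have hno : ∀ n, 2 ≤ n → n ≤ 25 → ¬ HasDeg n G := by
    intro n h1 h2 h
    obtain ⟨χ, hχ⟩ := sameDeg_hasDeg hd h
    rcases lowDeg_o7 hH hF e χ with h4 | h4 <;> omega
  have hnt : Nontrivial G := by
    rw [← Finite.one_lt_card_iff_nontrivial]
    rcases hcG with h | h <;> rw [h] <;> norm_num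
  obtain ⟨M, hMn, hs⟩ := H655.PrimeNormal.exists_simple_quotient G
  have hPq : Group.IsPerfect (G ⧸ M) := Group.IsPerfect.ofSurjective (QuotientGroup.mk'_surjective M)
  -- simple quotients
  have hquot : ∀ (T : Type u) [Group T] [Finite T] [IsSimpleGroup T] (f : G →* T), Function.Surjective f →
      (¬ ∀ a b : T, a * b = b * a) → Nat.card T ∣ 27512110080 →
      ∃ g ∈ restO7, OrdDiv.Real g T ∧ Nat.card T = ordN g := by
    intro T _ _ _ f hf hna hdvd
    obtain ⟨g, hg, hr, ho⟩ := OrdDiv.exists_good tab (known T) hna valid_o7 hdvd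
    rw [cands_o7] at hg
    exact ⟨g, mem_rest hg hr (fun n h1 h2 h => hno n h1 h2 (hasDeg_of_surj h f hf)), hr, ho⟩
  have hna : ¬ ∀ a b : G ⧸ M, a * b = b * a := by
    intro hcon
    have h1 : commutator (G ⧸ M) = ⊤ := Group.isPerfect_def.1 hPq
    have h2 : commutator (G ⧸ M) = ⊥ := by
      rw [commutator_def, eq_bot_iff, Subgroup.commutator_le]
      intro a _ b _
      rw [mem_bot, commutatorElement_eq_one_iff_mul_comm]
      exact hcon a b
    have h3 : (⊤ : Subgroup (G ⧸ M)) = ⊥ := h1.symm.trans h2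
    exact absurd h3 (top_ne_bot)
  have hcard : Nat.card G = Nat.card (G ⧸ M) * Nat.card M := Subgroup.card_eq_card_quotient_mul_card_subgroup M
  obtain ⟨g, hg, hr, ho⟩ := hquot (G ⧸ M) (QuotientGroup.mk' M) (QuotientGroup.mk'_surjective M) hna
    ((Dvd.intro _ hcard.symm).trans hcN)
  have hM : Group.IsSolvable M := by
    refine H456.DM.Solv.solvable_of_sch sch hP M ?_ ?_
    · intro T _ _ _ f hf hnaT hdvd
      obtain ⟨g', hg', -, ho'⟩ := hquot T f hf hnaT ((Dvd.intro _ rfl).trans (hdvd.trans hcN))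
      rw [ho, ho'] at hdvd
      exact ord_rest g hg g' hg' (hdvd.trans hcN)
    · have h1 := ord_big g hg
      rw [← ho] at h1
      rcases hcG with h | h <;> rw [h] <;> omega
  have hgo := only_o7 hP hcG M hs hna hM hg hr ho
  subst hgo
  have hk : Nat.card (G ⧸ M) = 4585351680 := ho.trans (by decide +kernel)
  rw [hk] at hcard
  have hcM := card_m (m₁ := 3) (m₂ := 6) hcard hcG (by norm_num) (by norm_num) (by norm_num)
  have hMc : M ≤ center G := by
    refine H456.DM.Cover.le_center_of hP M hs hM ?_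
    intro l hl j hj hdj hdvd
    have hl6 : l ^ j ∣ 6 := by
      rcases hcM with h | h <;> rw [h] at hdj
      · exact hdj.trans (by norm_num)
      · exact hdj
    have hl3 : l ≤ 6 := (Nat.le_of_dvd (by norm_num) ((dvd_pow_self l (by omega)).trans hl6))
    have hj2 : j < 3 := by
      by_contra hlt
      push Not at hlt
      have h1 : l ^ 3 ∣ 6 := (pow_dvd_pow l hlt).trans hl6
      have h2 : 2 ^ 3 ≤ l ^ 3 := Nat.pow_le_pow_left hl.two_le 3
      have h4 := Nat.le_of_dvd (by norm_num) h1
      omega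
    rw [card_gl hl, hk] at hdvd
    have h5 : glc l j < 4585351680 ∧ glc l j ≠ 0 := by
      have h6 := hl.two_le
      interval_cases l <;> interval_cases j <;> decide
    exact absurd (Nat.le_of_dvd (Nat.pos_of_ne_zero h5.2) hdvd) (not_le.2 h5.1)
  have hcen : center G = M := by
    refine le_antisymm ?_ hMc
    intro x hx
    by_contra hxM
    have h1 : (center G).map (QuotientGroup.mk' M) = ⊤ := by
      refine (hs.eq_bot_or_eq_top_of_normal _ ((inferInstance : (center G).Normal).map _
        (QuotientGroup.mk'_surjective M))).resolve_left fun h2 => hxM ?_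
      have h3 : QuotientGroup.mk' M x ∈ (center G).map (QuotientGroup.mk' M) := mem_map_of_mem _ hx
      rw [h2, mem_bot] at h3
      exact (QuotientGroup.eq_one_iff _).1 h3
    apply hna
    intro a b
    have ha : a ∈ (center G).map (QuotientGroup.mk' M) := h1 ▸ mem_top _
    obtain ⟨z, hz, rfl⟩ := ha
    obtain ⟨y, rfl⟩ := QuotientGroup.mk'_surjective M b
    rw [← map_mul, ← map_mul, (mem_center_iff.1 hz y)]
  subst hcen
  have hQ : IsQuasisimple G := ⟨hP, hs⟩
  obtain ⟨F', _, _, hF', ⟨e'⟩⟩ := hr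
  obtain ⟨e2⟩ := UGT.U2.Rec.Congr.nonempty_POmegaOdd (FiniteField.ringEquivOfCardEq (hF'.trans hF.symm) : F' ≃+* F) 3
  have hcc : Nat.card (center G) = Nat.card (center H) := by
    have h1 := sameDeg_card_eq hd
    rw [hcard, Subgroup.card_eq_card_quotient_mul_card_subgroup (center H), Nat.card_congr e.toEquiv,
      card_o7 hF] at h1
    exact Nat.eq_of_mul_eq_mul_left (by norm_num) h1
  exact H124.DM.iso_of_cyc hA hQ hH (e'.trans e2) ((e'.trans e2).trans e.symm) hcc

end Cfsg.Agent.H604.DM
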